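import Cfsg.Agent.Characters.Orthogonality
import Mathlib.LinearAlgebra.Matrix.StdBasis

/-!
# Frobenius–Schur indicators and square roots

For an irreducible character `χ` the indicator `(1/#G) ∑ χ (g * g)` is `0` when `χ` is not real and
`±1` when it is; the number of square roots of `g` is the sum of indicator times value.
-/

set_option autoImplicit false
set_option linter.style.haveILetI false
set_option linter.unusedSectionVars false

namespace CfsgLib.SquareRoots

open scoped ComplexConjugate
open Matrix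

universe u
variable {G : Type u} [Group G]

section Rep

variable {n : ℕ}

/-- `E ↦ M E Mᵀ`, the tensor square of a matrix representation. -/
noncomputable def sqRep (ρ : Representation ℂ G (Fin n → ℂ)) :
    Representation ℂ G (Matrix (Fin n) (Fin n) ℂ) where
  toFun g :=
    { toFun := fun E => LinearMap.toMatrix' (ρ g) * E * (LinearMap.toMatrix' (ρ g))ᵀ
      map_add' := fun E F => by rw [Matrix.mul_add, Matrix.add_mul]
      map_smul' := fun c E => by rw [RingHom.id_apply, Matrix.mul_smul, Matrix.smul_mul] }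
  map_one' := by
    ext E : 1
    show LinearMap.toMatrix' (ρ 1) * E * (LinearMap.toMatrix' (ρ 1))ᵀ = E
    rw [map_one, show LinearMap.toMatrix' (1 : Module.End ℂ (Fin n → ℂ)) = 1 from
      LinearMap.toMatrix'_id, Matrix.one_mul, Matrix.transpose_one, Matrix.mul_one]
  map_mul' g h := by
    ext E : 1
    show LinearMap.toMatrix' (ρ (g * h)) * E * (LinearMap.toMatrix' (ρ (g * h)))ᵀ =
      LinearMap.toMatrix' (ρ g) *
        (LinearMap.toMatrix' (ρ h) * E * (LinearMap.toMatrix' (ρ h))ᵀ) *
        (LinearMap.toMatrix' (ρ g))ᵀ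
    rw [map_mul, LinearMap.toMatrix'_mul, Matrix.transpose_mul]
    simp only [Matrix.mul_assoc]

theorem sqRep_apply (ρ : Representation ℂ G (Fin n → ℂ)) (g : G) (E : Matrix (Fin n) (Fin n) ℂ) :
    sqRep ρ g E = LinearMap.toMatrix' (ρ g) * E * (LinearMap.toMatrix' (ρ g))ᵀ := rfl

/-- Transposition as a linear map. -/
noncomputable def transposeLin (n : ℕ) :
    Matrix (Fin n) (Fin n) ℂ →ₗ[ℂ] Matrix (Fin n) (Fin n) ℂ :=
  (Matrix.transposeLinearEquiv (Fin n) (Fin n) ℂ ℂ).toLinearMap

theorem transposeLin_apply (E : Matrix (Fin n) (Fin n) ℂ) : transposeLin n E = Eᵀ := rfl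

theorem trace_matrix_end (T : Matrix (Fin n) (Fin n) ℂ →ₗ[ℂ] Matrix (Fin n) (Fin n) ℂ) :
    LinearMap.trace ℂ _ T = ∑ i, ∑ j, T (Matrix.single i j 1) i j := by
  rw [LinearMap.trace_eq_matrix_trace ℂ (Matrix.stdBasis ℂ (Fin n) (Fin n)), Matrix.trace,
    Fintype.sum_prod_type]
  refine Finset.sum_congr rfl fun i _ => Finset.sum_congr rfl fun j _ => ?_
  rw [Matrix.diag, LinearMap.toMatrix_apply, Matrix.stdBasis_eq_single]
  rfl

theorem mul_single_mul_transpose (A : Matrix (Fin n) (Fin n) ℂ) (i j a b : Fin n) :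
    (A * Matrix.single i j (1 : ℂ) * Aᵀ) a b = A a i * A b j := by
  simp [Matrix.mul_apply, Matrix.single_apply, Finset.sum_ite_eq, ite_and]

theorem char_eq_trace (ρ : Representation ℂ G (Fin n → ℂ)) (g : G) :
    ρ.character g = ∑ i, LinearMap.toMatrix' (ρ g) i i := by
  rw [Representation.character, LinearMap.trace_eq_matrix_trace ℂ (Pi.basisFun ℂ (Fin n)),
    LinearMap.toMatrix_eq_toMatrix']
  rfl

theorem char_sqRep (ρ : Representation ℂ G (Fin n → ℂ)) (g : G) :
    (sqRep ρ).character g = ρ.character g * ρ.character g := by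
  rw [Representation.character, trace_matrix_end, char_eq_trace, Finset.sum_mul_sum]
  simp only [sqRep_apply, mul_single_mul_transpose]

theorem trace_transpose_sqRep (ρ : Representation ℂ G (Fin n → ℂ)) (g : G) :
    LinearMap.trace ℂ _ (transposeLin n ∘ₗ sqRep ρ g) = ρ.character (g * g) := by
  rw [trace_matrix_end, char_eq_trace, map_mul, LinearMap.toMatrix'_mul]
  simp only [LinearMap.comp_apply, transposeLin_apply, Matrix.transpose_apply, sqRep_apply,
    mul_single_mul_transpose]
  simp only [Matrix.mul_apply]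
  exact Finset.sum_congr rfl fun i _ => Finset.sum_congr rfl fun j _ => mul_comm _ _

/-- The indicator is `0` or `±1`, and `0` for non-real characters. -/
theorem indicator_cases_aux [Fintype G] (ρ : Representation ℂ G (Fin n → ℂ)) [ρ.IsIrreducible] :
    ((fun g => conj (ρ.character g)) ≠ ρ.character →
        (Nat.card G : ℂ)⁻¹ * ∑ g : G, ρ.character (g * g) = 0) ∧
      ((fun g => conj (ρ.character g)) = ρ.character →
        (Nat.card G : ℂ)⁻¹ * ∑ g : G, ρ.character (g * g) = 1 ∨
          (Nat.card G : ℂ)⁻¹ * ∑ g : G, ρ.character (g * g) = -1) := by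
  classical
  letI := invertibleOfNonzero (CfsgLib.Characters.natCard_ne_zero (G := G))
  haveI : Invertible (Fintype.card G : ℂ) := by
    rw [Fintype.card_eq_nat_card]; infer_instance
  set P := (sqRep ρ).averageMap with hP
  have hproj := Representation.isProj_averageMap (ρ := sqRep ρ)
  have hPval : P = (Nat.card G : ℂ)⁻¹ • ∑ g : G, sqRep ρ g := by
    rw [hP, Representation.averageMap, GroupAlgebra.average, map_smul, map_sum, invOf_eq_inv,
      Nat.card_eq_fintype_card]
    simp [Representation.asAlgebraHom]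
  have hν : LinearMap.trace ℂ _ (transposeLin n ∘ₗ P) =
      (Nat.card G : ℂ)⁻¹ * ∑ g : G, ρ.character (g * g) := by
    rw [hPval, LinearMap.comp_smul, map_smul, smul_eq_mul, ← Module.End.mul_eq_comp, Finset.mul_sum, map_sum]
    simp only [Module.End.mul_eq_comp]
    simp only [trace_transpose_sqRep]
  have hrank : (Module.finrank ℂ (sqRep ρ).invariants : ℂ) =
      Cfsg.classInner ρ.character (fun g => conj (ρ.character g)) := by
    rw [← Representation.card_inv_mul_sum_char_eq_finrank, Cfsg.classInner]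
    simp only [char_sqRep, Complex.conj_conj]
  have hconj : Cfsg.IsIrrCharacter G (fun g => conj (ρ.character g)) := by
    have h1 : Cfsg.IsCharacter G (fun g => conj (ρ.character g)) :=
      CfsgLib.Characters.isCharacter_conj (CfsgLib.Characters.isCharacter_character ρ)
    obtain ⟨l, hl⟩ := CfsgLib.Characters.exists_nat_coeff h1
    have h2 : Cfsg.classInner (fun g => conj (ρ.character g)) (fun g => conj (ρ.character g)) = 1 := by
      rw [CfsgLib.Characters.classInner_conj_conj,
        CfsgLib.Characters.classInner_isIrr_self (CfsgLib.Characters.isIrrCharacter_character ρ),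
        map_one]
    have h3 : (∑ χ, (l χ : ℂ) * (l χ : ℂ)) = 1 := by
      rw [← h2]
      conv_rhs => rw [hl]
      rw [CfsgLib.Characters.classInner_sum_left]
      refine Finset.sum_congr rfl fun χ _ => ?_
      rw [CfsgLib.Characters.classInner_smul_left, CfsgLib.Characters.classInner_conj_symm,
        CfsgLib.Characters.classInner_irr_coeff, Complex.conj_natCast]
    have h4 : (∑ χ, l χ * l χ) = 1 := by exact_mod_cast h3
    obtain ⟨χ₀, -, hχ₀⟩ : ∃ χ₀ ∈ (Finset.univ : Finset (Cfsg.IrrCharacter G)), l χ₀ ≠ 0 := by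
      by_contra h0
      push Not at h0
      rw [Finset.sum_eq_zero fun χ hχ => by rw [h0 χ hχ, mul_zero]] at h4
      exact zero_ne_one h4
    have h5 : l χ₀ * l χ₀ ≤ 1 := h4 ▸ Finset.single_le_sum (f := fun χ => l χ * l χ)
      (fun _ _ => Nat.zero_le _) (Finset.mem_univ χ₀)
    have h6 : l χ₀ = 1 := by nlinarith [Nat.pos_of_ne_zero hχ₀]
    have h7 : ∀ χ, χ ≠ χ₀ → l χ = 0 := by
      intro χ hne
      rw [← Finset.add_sum_erase _ _ (Finset.mem_univ χ₀), h6] at h4
      have h8 := Finset.single_le_sum (f := fun χ => l χ * l χ) (fun _ _ => Nat.zero_le _)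
        (Finset.mem_erase.2 ⟨hne, Finset.mem_univ χ⟩)
      have h9 : l χ * l χ = 0 := by omega
      exact mul_self_eq_zero.1 h9
    rw [hl, Finset.sum_eq_single χ₀ (fun χ _ hne => by rw [h7 χ hne, Nat.cast_zero, zero_smul])
      (fun h => absurd (Finset.mem_univ χ₀) h), h6, Nat.cast_one, one_smul]
    exact χ₀.2
  have hρ' := CfsgLib.Characters.isIrrCharacter_character ρ
  constructor
  · intro hne
    rw [CfsgLib.Characters.classInner_isIrr_ne hρ' hconj (fun h => hne h.symm), Nat.cast_eq_zero,
      Submodule.finrank_eq_zero] at hrank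
    have hP0 : P = 0 := LinearMap.ext fun E => by
      have := hproj.map_mem E
      rw [hrank, Submodule.mem_bot] at this
      rw [hP, this, LinearMap.zero_apply]
    rw [← hν, hP0, LinearMap.comp_zero, map_zero]
  · intro heq
    rw [heq, CfsgLib.Characters.classInner_isIrr_self hρ', ← Nat.cast_one, Nat.cast_inj] at hrank
    obtain ⟨⟨J, hJ⟩, hJ0, hJspan⟩ := finrank_eq_one_iff'.1 hrank
    have hJT : Jᵀ ∈ (sqRep ρ).invariants := by
      intro g
      have := congrArg Matrix.transpose (hJ g)
      rw [sqRep_apply, Matrix.transpose_mul, Matrix.transpose_mul, Matrix.transpose_transpose,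
        ← Matrix.mul_assoc] at this
      rw [sqRep_apply]
      exact this
    obtain ⟨ε, hε⟩ := hJspan ⟨Jᵀ, hJT⟩
    have hεJ : ε • J = Jᵀ := congrArg Subtype.val hε
    have hJne : J ≠ 0 := fun h => hJ0 (Subtype.ext h)
    have hε2 : ε * ε = 1 := by
      have h2 : (ε * ε) • J = (1 : ℂ) • J := by
        rw [mul_smul, hεJ, one_smul, ← Matrix.transpose_smul, hεJ, Matrix.transpose_transpose]
      exact smul_left_injective ℂ hJne h2
    have hcomp : transposeLin n ∘ₗ P = ε • P := by
      refine LinearMap.ext fun E => ?_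
      obtain ⟨c, hc⟩ := hJspan ⟨P E, hproj.map_mem E⟩
      have hc' : c • J = P E := congrArg Subtype.val hc
      rw [LinearMap.comp_apply, transposeLin_apply, LinearMap.smul_apply, ← hc',
        Matrix.transpose_smul, ← hεJ, smul_comm]
    rw [← hν, hcomp, map_smul, hP, hproj.trace, hrank, Nat.cast_one, smul_eq_mul, mul_one]
    exact mul_self_eq_one_iff.1 hε2

end Rep

variable [Finite G]

/-- The Frobenius–Schur indicator of `χ`. -/
noncomputable def indicator (χ : G → ℂ) : ℂ := (Nat.card G : ℂ)⁻¹ * ∑ᶠ g : G, χ (g * g)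

theorem indicator_eq_zero_of_not_real {χ : G → ℂ} (hχ : Cfsg.IsIrrCharacter G χ)
    (h : ¬ ∀ g, (χ g).im = 0) : indicator χ = 0 := by
  haveI := Fintype.ofFinite G
  obtain ⟨n, ρ, hρ, rfl⟩ := hχ
  rw [indicator, finsum_eq_sum_of_fintype]
  exact (indicator_cases_aux ρ).1 fun he =>
    h fun g => Complex.conj_eq_iff_im.1 (congrFun he g)

theorem indicator_of_real {χ : G → ℂ} (hχ : Cfsg.IsIrrCharacter G χ) (h : ∀ g, (χ g).im = 0) :
    indicator χ = 1 ∨ indicator χ = -1 := by
  haveI := Fintype.ofFinite G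
  obtain ⟨n, ρ, hρ, rfl⟩ := hχ
  rw [indicator, finsum_eq_sum_of_fintype]
  exact (indicator_cases_aux ρ).2 (funext fun g => Complex.conj_eq_iff_im.2 (h g))

theorem indicator_cases {χ : G → ℂ} (hχ : Cfsg.IsIrrCharacter G χ) :
    indicator χ = 0 ∨ indicator χ = 1 ∨ indicator χ = -1 := by
  by_cases h : ∀ g, (χ g).im = 0
  · exact Or.inr (indicator_of_real hχ h)
  · exact Or.inl (indicator_eq_zero_of_not_real hχ h)

theorem indicator_conj {χ : G → ℂ} (hχ : Cfsg.IsIrrCharacter G χ) :
    conj (indicator χ) = indicator χ := by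
  rcases indicator_cases hχ with h | h | h <;> simp [h]

/-- The number of square roots. -/
theorem card_sqrt_eq (g : G) :
    (Nat.card {x : G // x * x = g} : ℂ) =
      ∑ χ : Cfsg.IrrCharacter G, indicator (χ : G → ℂ) * (χ : G → ℂ) g := by
  classical
  haveI := Fintype.ofFinite G
  set θ : G → ℂ := fun y => (Nat.card {x : G // x * x = y} : ℂ) with hθ
  have hcl : Cfsg.IsClassFunction G θ := fun y c => by
    simp only [hθ, Nat.cast_inj]
    refine Nat.card_congr ⟨fun x => ⟨c⁻¹ * x.1 * c, ?_⟩, fun x => ⟨c * x.1 * c⁻¹, ?_⟩,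
      fun x => Subtype.ext (by group), fun x => Subtype.ext (by group)⟩
    · calc c⁻¹ * x.1 * c * (c⁻¹ * x.1 * c) = c⁻¹ * (x.1 * x.1) * c := by group
        _ = y := by rw [x.2]; group
    · calc c * x.1 * c⁻¹ * (c * x.1 * c⁻¹) = c * (x.1 * x.1) * c⁻¹ := by group
        _ = c * y * c⁻¹ := by rw [x.2]
  have hinner : ∀ χ : Cfsg.IrrCharacter G,
      Cfsg.classInner θ (χ : G → ℂ) = indicator (χ : G → ℂ) := by
    intro χ
    rw [← indicator_conj χ.2, indicator, finsum_eq_sum_of_fintype, map_mul, map_inv₀,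
      Complex.conj_natCast, map_sum, Cfsg.classInner]
    congr 1
    rw [← Finset.sum_fiberwise (s := Finset.univ) (fun x : G => x * x)
      (fun x => conj ((χ : G → ℂ) (x * x)))]
    refine Finset.sum_congr rfl fun y _ => ?_
    rw [Finset.sum_congr rfl fun x hx => by rw [(Finset.mem_filter.1 hx).2], Finset.sum_const,
      nsmul_eq_mul, hθ]
    simp only [Nat.card_eq_fintype_card, Fintype.card_subtype]
  have := congrFun (CfsgLib.Characters.classFunction_expansion hcl) g
  simpa only [hinner, Finset.sum_apply, Pi.smul_apply, smul_eq_mul] using this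

end CfsgLib.SquareRoots
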